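import Groth.Agent.Lib.HensSpec.Univ
import Groth.Agent.Lib.Hensel.PairHull
import Groth.Agent.Lib.PullLoc25.FlatStalks
import Mathlib.RingTheory.Flat.Localization

/-!
# The Henselization map is flat
-/

set_option autoImplicit false

universe u

open CategoryTheory Opposite TopologicalSpace AlgebraicGeometry

namespace GrothLib.HensFlat4

open GrothLib.HensSpec

/-- The Henselization of `(A_f, I A_f)` is flat over `A`. -/
theorem flat_of_isHensAway {A B : Type u} [CommRing A] [CommRing B] {I : Ideal A} {f : A} {φ : A →+* B}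
    (h : HensSch.IsHensAway A I f B φ) : φ.Flat := by
  let Af := Localization.Away f
  let ψ : Af →+* B := IsLocalization.Away.lift f (g := φ) h.1
  have hψ : ψ.comp (algebraMap A Af) = φ := IsLocalization.Away.lift_comp f (g := φ) h.1
  letI : Algebra Af B := ψ.toAlgebra
  have hI : (I.map (algebraMap A Af)).map ψ = I.map φ := by rw [Ideal.map_map, hψ]
  have hP : Hens2.IsPairHenselization Af (I.map (algebraMap A Af)) B := by
    refine ⟨?_, fun C _ J g hC hg => ?_⟩
    · show HenselianRing B ((I.map (algebraMap A Af)).map ψ)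
      rw [hI]
      exact h.2.1
    obtain ⟨k, hk, huniq⟩ := h.2.2 C J (g.comp (algebraMap A Af)) hC
      (by rw [← Ideal.map_map]; exact hg) ((IsLocalization.Away.algebraMap_isUnit (S := Af) f).map g)
    refine ⟨k, IsLocalization.ringHom_ext (Submonoid.powers f) ?_, fun k' hk' => huniq k' ?_⟩
    · show (k.comp ψ).comp (algebraMap A Af) = g.comp (algebraMap A Af)
      rw [RingHom.comp_assoc, hψ, hk]
    · show k'.comp φ = g.comp (algebraMap A Af)
      rw [← hk', RingHom.comp_assoc]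
      exact congrArg _ hψ.symm
  have h1 : ψ.Flat := Hensel.IsPairHenselization.flat hP
  rw [← hψ]
  exact RingHom.Flat.comp (RingHom.flat_algebraMap_iff.2 (IsLocalization.flat Af (Submonoid.powers f))) h1

variable {X : Scheme.{u}} {Xh : LocallyRingedSpace.{u}} (g : Xh ⟶ X.toLocallyRingedSpace)

/-- Flatness on small opens over an affine chart gives flatness on stalks. -/
theorem flat_stalkMap {U : X.Opens} (hU : IsAffineOpen U) (x : Xh) (hx : g.base x ∈ U)
    (hb : ∀ O : Opens Xh, x ∈ O → ∃ (W : Opens Xh) (hW : W ≤ (Opens.map g.base).obj U),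
      x ∈ W ∧ W ≤ O ∧ ((res hW).comp (pull g U)).Flat) :
    (g.stalkMap x).hom.Flat := by
  classical
  let R := Sec X.toLocallyRingedSpace U
  let Sy := X.presheaf.stalk (g.base x)
  let Sx := Xh.presheaf.stalk x
  let μ : Sy →+* Sx := (g.stalkMap x).hom
  let γ : R →+* Sy := (X.presheaf.germ U (g.base x) hx).hom
  letI : Algebra R Sy := γ.toAlgebra
  letI : Algebra Sy Sx := μ.toAlgebra
  letI : Algebra R Sx := (μ.comp γ).toAlgebra
  haveI : IsScalarTower R Sy Sx := IsScalarTower.of_algebraMap_eq fun _ => rfl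
  haveI : IsLocalization.AtPrime Sy (hU.primeIdealOf ⟨g.base x, hx⟩).asIdeal :=
    hU.isLocalization_stalk ⟨g.base x, hx⟩
  show Module.Flat Sy Sx
  rw [Module.flat_iff_of_isLocalization Sy (hU.primeIdealOf ⟨g.base x, hx⟩).asIdeal.primeCompl]
  refine Module.Flat.of_forall_isTrivialRelation fun {l a z} hrel => ?_
  obtain ⟨O, -, hxO, s, hs⟩ :=
    PullLoc25.exists_germs Xh.presheaf (U₀ := (Opens.map g.base).obj U) hx z
  obtain ⟨W₀, hW₀, hxW₀, hW₀O, -⟩ := hb O hxO
  let t : Sec Xh W₀ := ∑ i, res hW₀ (pull g U (a i)) * res hW₀O (s i)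
  have hgerm : ∀ (W : Opens Xh) (hW : W ≤ (Opens.map g.base).obj U) (hxW : x ∈ W) (r : R),
      Xh.presheaf.germ W x hxW (res hW (pull g U r)) = algebraMap R Sx r := fun W hW hxW r =>
    (TopCat.Presheaf.germ_res_apply Xh.presheaf (homOfLE hW) x hxW _).trans
      (LocallyRingedSpace.stalkMap_germ_apply g U x hx r).symm
  have hres : ∀ (V W : Opens Xh) (hVW : W ≤ V) (hxW : x ∈ W) (e : Sec Xh V),
      Xh.presheaf.germ W x hxW (res hVW e) = Xh.presheaf.germ V x (hVW hxW) e := fun V W hVW hxW e =>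
    TopCat.Presheaf.germ_res_apply Xh.presheaf (homOfLE hVW) x hxW e
  have ht : Xh.presheaf.germ W₀ x hxW₀ t = Xh.presheaf.germ W₀ x hxW₀ 0 := by
    rw [map_zero, map_sum, ← hrel]
    refine Finset.sum_congr rfl fun i _ => ?_
    rw [map_mul, hgerm, hres, hs, Algebra.smul_def]
  obtain ⟨O₁, hO₁, i₁, i₂, he⟩ := Xh.presheaf.germ_eq x hxW₀ hxW₀ t 0 ht
  obtain ⟨W, hW, hxW, hWO₁, hflat⟩ := hb O₁ hO₁
  let σ : R →+* Sec Xh W := (res hW).comp (pull g U)
  letI : Algebra R (Sec Xh W) := σ.toAlgebra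
  haveI : Module.Flat R (Sec Xh W) := hflat
  have hWW₀ : W ≤ W₀ := hWO₁.trans i₁.le
  have hr : ∑ i, a i • res (hWW₀.trans hW₀O) (s i) = 0 := by
    have e : res hWO₁ (res i₁.le t) = res hWO₁ (res i₁.le 0) :=
      congrArg (res hWO₁) (he.trans (congrArg (fun k => (Xh.presheaf.map k).hom 0) (Subsingleton.elim _ _)))
    rw [map_zero, map_zero, res_res, map_sum] at e
    rw [← e]
    refine Finset.sum_congr rfl fun i _ => ?_
    rw [map_mul, res_res, res_res]
    rfl
  obtain ⟨k, c, y, hy, hc⟩ := Module.Flat.isTrivialRelation_of_sum_smul_eq_zero hr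
  refine ⟨k, c, fun j => Xh.presheaf.germ W x hxW (y j), fun i => ?_, hc⟩
  rw [← hs i, ← hres O W (hWW₀.trans hW₀O) hxW,
    show res (hWW₀.trans hW₀O) (s i) = ∑ j, c i j • y j from hy i, map_sum]
  refine Finset.sum_congr rfl fun j _ => ?_
  rw [Algebra.smul_def, Algebra.smul_def, map_mul, ← hgerm W hW hxW]
  rfl

/-- A morphism with flat stalk maps has exact inverse image. -/
theorem preservesFiniteLimits_pullMod {Y : LocallyRingedSpace.{u}} (φ : Xh ⟶ Y)
    (h : ∀ x, (φ.stalkMap x).hom.Flat) : Limits.PreservesFiniteLimits (HensSch.pullMod φ) :=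
  PullLoc25.isFlat_of_locFlat _ (PullLoc25.locFlat_of_stalks φ.base Xh.sheaf Y.sheaf ⟨φ.c⟩ h)

/-- The stalk maps of a Henselization are flat. -/
theorem flat_stalkMap_of_isHenselizationAlong {Y : Set X}
    (hh : HensSch.IsHenselizationAlong X Y Xh g) (x : Xh) : (g.stalkMap x).hom.Flat := by
  obtain ⟨U, hxU, hU, hchart⟩ := exists_isChart g hh (g.base x) (hh.2.2.1.le ⟨x, rfl⟩)
  refine flat_stalkMap g hU x hxU fun O hxO => ?_
  obtain ⟨O', hO', he⟩ := hh.2.1.toIsInducing.isOpen_iff.mp O.isOpen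
  have hx' : g.base x ∈ O' := (he.ge hxO : x ∈ g.base ⁻¹' O')
  obtain ⟨f, hfle, hxf⟩ := hU.exists_basicOpen_le (V := ⟨O', hO'⟩) ⟨g.base x, hx'⟩ hxU
  exact ⟨_, fun y hy => X.basicOpen_le f hy, hxf, fun y hy => he.le (hfle hy),
    flat_of_isHensAway (hchart f)⟩

/-- The stalk maps of an affine Henselian spectrum are flat. -/
theorem flat_stalkMap_of_isSph {A : Type u} [CommRing A] {I : Ideal A} {Z : LocallyRingedSpace.{u}}
    {π : Z ⟶ HensSch.specLRS A} (hZ : HensSch.IsSph A I Z π) (x : Z) : (π.stalkMap x).hom.Flat := by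
  refine flat_stalkMap (X := Spec (CommRingCat.of A)) π (isAffineOpen_top (Spec (CommRingCat.of A))) x
    trivial fun O hxO => ?_
  obtain ⟨f, hxf, hfO⟩ := exists_dOpen_le hZ O x hxO
  refine ⟨_, le_top, hxf, hfO, ?_⟩
  have e : (res (le_top : HensSch.dOpen π f ≤ ⊤)).comp (pull π ⊤) =
      (HensSch.secMap π (PrimeSpectrum.basicOpen f)).comp (Scheme.ΓSpecIso (CommRingCat.of A)).hom.hom := by
    refine RingHom.ext fun r => ?_
    show res le_top (pull π ⊤ r) = res le_top (pull π ⊤ ((Scheme.ΓSpecIso (CommRingCat.of A)).inv.hom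
      ((Scheme.ΓSpecIso (CommRingCat.of A)).hom.hom r)))
    erw [Iso.hom_inv_id_apply]
  refine e ▸ RingHom.Flat.comp (RingHom.Flat.of_bijective ?_) (flat_of_isHensAway (hZ.2.2 f))
  exact ConcreteCategory.bijective_of_isIso (Scheme.ΓSpecIso (CommRingCat.of A)).hom

end GrothLib.HensFlat4
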