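import Groth.Agent.Lib.HensFlat4.Basic
import Groth.Agent.Lib.PullLoc25.ExactFlat
import Groth.Agent.Lib.WeakAss.Basic
import Groth.Agent.Lib.QCoh.GenericPoint
import Mathlib.RingTheory.Flat.FaithfullyFlat.Algebra

/-!
# Faithfulness of the Henselization of modules
-/

set_option autoImplicit false

universe u

open CategoryTheory Opposite TopologicalSpace AlgebraicGeometry TensorProduct

namespace GrothLib.HensFlat4

open GrothLib.HensSpec GrothLib.PullLoc25

variable {X : Scheme.{u}} {Xh : LocallyRingedSpace.{u}} (ι : Xh ⟶ X.toLocallyRingedSpace)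

set_option maxHeartbeats 400000 in
/-- A section killed in the inverse image has zero germ where the stalk map is faithfully flat. -/
theorem germ_eq_zero_of_pullSec_eq_zero (K : X.Modules) {O : X.Opens} (m : Γ(K, O))
    (hm : pullSec (HensSch.rmor ι) K (U := O) m = 0) (x : Xh) (hx : ι.base x ∈ O)
    (hflat : (ι.stalkMap x).hom.Flat) : K.presheaf.germ O (ι.base x) hx m = 0 := by
  classical
  let e₀ : (Σ i : Idx (O_D := X.toLocallyRingedSpace.sheaf) K, ((Opens.map ι.base).obj O) ⟶ (Opens.map ι.base).obj i.1) :=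
    ⟨⟨O, m⟩, 𝟙 _⟩
  have hy₀ : (lam (HensSch.rmor ι) K).app (op ((Opens.map ι.base).obj O)) (gen' (HensSch.rmor ι) K e₀) = 0 := by
    rw [lam_gen']
    refine Eq.trans ?_ hm
    exact res_id ((HensSch.pullMod ι).obj K) (pullSec (HensSch.rmor ι) K (U := O) m)
  obtain ⟨S, hS, hrel⟩ := exists_rel (HensSch.rmor ι) K _ hy₀
  obtain ⟨V, g, hg, hxV⟩ := hS x hx
  obtain ⟨d, hd⟩ := hrel g hg
  erw [gen'_map (HensSch.rmor ι) K g e₀] at hd
  rw [relMap_apply] at hd
  let ds : (Σ R : Rel (O_D := X.toLocallyRingedSpace.sheaf) K, V ⟶ (Opens.map ι.base).obj R.W) →₀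
    Sec Xh V := d
  let Sy := X.presheaf.stalk (ι.base x)
  let Sx := Xh.presheaf.stalk x
  let Gy := K.presheaf.stalk (ι.base x)
  letI : Algebra Sy Sx := (ι.stalkMap x).hom.toAlgebra
  haveI : Module.Flat Sy Sx := hflat
  haveI : IsLocalHom (algebraMap Sy Sx) := inferInstanceAs (IsLocalHom (ι.stalkMap x).hom)
  haveI : Module.FaithfullyFlat Sy Sx := Module.FaithfullyFlat.of_flat_of_isLocalHom
  let μ : (Σ i : Idx (O_D := X.toLocallyRingedSpace.sheaf) K, V ⟶ (Opens.map ι.base).obj i.1) →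
      Sx ⊗[Sy] Gy := fun e => (1 : Sx) ⊗ₜ K.presheaf.germ e.1.1 (ι.base x) (leOfHom e.2 hxV) e.1.2
  let θ : Sec Xh V →+* Sx := (Xh.presheaf.germ V x hxV).hom
  let ψ : ((Σ i : Idx (O_D := X.toLocallyRingedSpace.sheaf) K, V ⟶ (Opens.map ι.base).obj i.1) →₀
      Sec Xh V) →+ Sx ⊗[Sy] Gy :=
    Finsupp.liftAddHom fun e => AddMonoidHom.mk' (fun c => θ c • μ e) fun c c' => by rw [map_add, add_smul]
  have hψ1 : ∀ e c, ψ (Finsupp.single e c) = θ c • μ e := fun e c =>
    Finsupp.liftAddHom_apply_single _ e c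
  have hψs : ∀ (c : Sec Xh V) z, ψ (c • z) = θ c • ψ z := by
    intro c z
    induction z using Finsupp.induction_linear with
    | zero => simp
    | add a b ha hb => rw [smul_add, map_add, map_add, ha, hb, smul_add]
    | single e c' => rw [Finsupp.smul_single, hψ1, hψ1, smul_eq_mul, map_mul, mul_smul]
  have hcoef : ∀ (W : X.Opens) (q : V ⟶ (Opens.map ι.base).obj W) (r : Γ(X, W)),
      θ (coef (HensSch.rmor ι) (W := W) q r) =
        algebraMap Sy Sx (X.presheaf.germ W (ι.base x) (leOfHom q hxV) r) := fun W q r =>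
    (TopCat.Presheaf.germ_res_apply Xh.presheaf q x hxV _).trans
      (LocallyRingedSpace.stalkMap_germ_apply ι W x (leOfHom q hxV) r).symm
  have hrel0 : ∀ R : (Σ R : Rel (O_D := X.toLocallyRingedSpace.sheaf) K, V ⟶ (Opens.map ι.base).obj R.W),
      ψ (relVec (HensSch.rmor ι) K (V := V) R) = 0 := by
    intro R
    have hyW : ι.base x ∈ R.1.W := leOfHom R.2 hxV
    have h0 := congrArg (fun z => (1 : Sx) ⊗ₜ[Sy] K.presheaf.germ R.1.W (ι.base x) hyW z) R.1.rel
    simp only [Finsupp.sum] at h0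
    erw [map_sum, map_zero, tmul_sum, tmul_zero] at h0
    simp only [relVec, Finsupp.sum]
    erw [map_sum]
    refine (Finset.sum_congr rfl fun a ha => ?_).trans h0
    refine (hψs _ _).trans ?_
    erw [hψ1]
    erw [map_one, one_smul, hcoef R.1.W R.2]
    refine Eq.trans ?_ (congrArg (fun z : Gy => (1 : Sx) ⊗ₜ[Sy] z)
      (WeakAss.germ_smul (F := K) hyW (R.1.r a) (K.presheaf.map a.2.op a.1.2)).symm)
    show algebraMap Sy Sx _ • ((1 : Sx) ⊗ₜ[Sy] _) = _
    rw [tmul_smul, algebraMap_smul]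
    refine congrArg (fun z : Gy => (X.presheaf.germ R.1.W (ι.base x) hyW (R.1.r a)) • ((1 : Sx) ⊗ₜ[Sy] z)) ?_
    exact (TopCat.Presheaf.germ_res_apply K.presheaf a.2 (ι.base x) hyW a.1.2).symm
  have h1 := congrArg ψ hd
  replace h1 := h1.trans (hψ1 ((gens (HensSch.rmor ι) K).map g.op e₀) 1)
  rw [map_one, one_smul] at h1
  rw [Finsupp.sum] at h1
  erw [map_sum] at h1
  replace h1 := (Finset.sum_eq_zero fun R _ => (hψs _ _).trans (by rw [hrel0 R, smul_zero])).symm.trans h1
  refine Module.FaithfullyFlat.tensorProduct_mk_injective (A := Sy) (B := Sx) Gy ?_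
  rw [map_zero]
  exact h1.symm

/-- Faithfulness on quasi-coherent modules when the closed set meets every closed point. -/
theorem map_injective [CompactSpace X] {Y : Set X} (hY : ∀ y : X, IsClosed ({y} : Set X) → y ∈ Y)
    (hh : HensSch.IsHenselizationAlong X Y Xh ι) (F G : X.Modules) [F.IsQuasicoherent] :
    Function.Injective ((HensSch.pullMod ι).map :
      (F ⟶ G) → ((HensSch.pullMod ι).obj F ⟶ (HensSch.pullMod ι).obj G)) := by
  intro (φ : F ⟶ G) (φ' : F ⟶ G) he
  have key : ∀ (U : X.Opens) (m : Γ(F, U)) (y : X) (hy : y ∈ U), y ∈ Y →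
      G.presheaf.germ U y hy (Scheme.Modules.Hom.app φ U m) =
        G.presheaf.germ U y hy (Scheme.Modules.Hom.app φ' U m) := by
    intro U m y hy hyY
    obtain ⟨x, rfl⟩ := hh.2.2.1.ge hyY
    rw [← sub_eq_zero, ← map_sub]
    refine germ_eq_zero_of_pullSec_eq_zero ι G _ ?_ x hy (flat_stalkMap_of_isHenselizationAlong ι hh x)
    refine (map_sub (((HensSch.rmor ι).adj.unit.app G).val.app (op U)).hom (φ.app U m) (φ'.app U m)).trans ?_
    refine sub_eq_zero_of_eq ?_
    refine (map_pullSec (HensSch.rmor ι) φ (U := U) m).symm.trans ?_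
    refine Eq.trans ?_ (map_pullSec (HensSch.rmor ι) φ' (U := U) m)
    exact congrArg (fun k : (HensSch.pullMod ι).obj F ⟶ (HensSch.pullMod ι).obj G =>
      k.val.app (op ((Opens.map ι.base).obj U)) (pullSec (HensSch.rmor ι) F (U := U) m)) he
  refine Scheme.Modules.hom_ext _ _ fun U => ?_
  ext m
  refine TopCat.Presheaf.section_ext (C := Ab.{u}) (X := X.carrier) ⟨G.presheaf, G.isSheaf⟩ U _ _
    fun y hy => ?_
  obtain ⟨z, hz, hzc⟩ := IsClosed.exists_closed_singleton (isClosed_closure (s := ({y} : Set X)))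
    ⟨y, subset_closure rfl⟩
  have hyz : y ⤳ z := specializes_iff_mem_closure.2 hz
  obtain ⟨_, ⟨V, hV, rfl⟩, hzV, -⟩ := X.isBasis_affineOpens.exists_subset_of_mem_open
    (Set.mem_univ z) isOpen_univ
  have hyV : y ∈ V := hyz.mem_open V.isOpen hzV
  obtain ⟨c, s, hc, hcs⟩ := WeakAss.exists_smul_eq_germ hV hyV (F.presheaf.germ U y hy m)
  have h1 : G.presheaf.germ V y hyV (φ.app V s) = G.presheaf.germ V y hyV (φ'.app V s) := by
    obtain ⟨W, hzW, i₁, i₂, e⟩ := TopCat.Presheaf.germ_eq G.presheaf z hzV hzV (φ.app V s) (φ'.app V s)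
      (key V s z hzV (hY z hzc))
    have hyW : y ∈ W := hyz.mem_open W.isOpen hzW
    have := congrArg (G.presheaf.germ W y hyW) e
    rwa [TopCat.Presheaf.germ_res_apply, TopCat.Presheaf.germ_res_apply] at this
  rw [← QCoh.stalkLin_germ φ, ← QCoh.stalkLin_germ φ', ← hcs, map_smul, map_smul] at h1
  have hu : IsUnit (X.presheaf.germ V y hyV c) :=
    (Scheme.mem_basicOpen _ c y hyV).mp (WeakAss.notMem_primeAt_iff.mp hc)
  have h2 := hu.smul_left_cancel.1 h1
  rwa [QCoh.stalkLin_germ, QCoh.stalkLin_germ] at h2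

end GrothLib.HensFlat4
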